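import Groth.Agent.QC.Extend
import Groth.Agent.QC.Localisation
import Groth.Agent.QC.FiniteType
import Groth.Agent.QC.Closure
import Groth.Agent.LocFree.Summand
import Mathlib

/-!
A coherent sheaf on an integral scheme whose direct image along a finite surjective morphism is
generically free on given global sections.
-/

set_option autoImplicit false
set_option backward.isDefEq.respectTransparency false
set_option backward.isDefEq.respectTransparency.types false

universe u

open CategoryTheory CategoryTheory.Limits AlgebraicGeometry TopologicalSpace Opposite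

noncomputable section

namespace Groth.Agent.GenBasis

open Groth.Agent.QC (res resO res_res resO_resO)

variable {X Y : Scheme.{u}}

/-- The morphism out of `O_Y` with a prescribed global section. -/
def homOfTop {N : Y.Modules} (s : Γ(N, ⊤)) : Coh.structureModule Y ⟶ N :=
  N.unitHomEquiv.symm (PresheafOfModules.sectionsMk (fun W => res N (le_top : W.unop ≤ ⊤) s)
    fun _ _ i => res_res N i.unop.le le_top s)

theorem homOfTop_app {N : Y.Modules} (s : Γ(N, ⊤)) (W : Y.Opens) (c : Γ(Y, W)) :
    (homOfTop s).app W c = c • res N (le_top : W ≤ ⊤) s := by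
  let one : Γ(Coh.structureModule Y, W) := (show Γ(Y, W) from 1)
  have hc : (show Γ(Coh.structureModule Y, W) from c) = c • one := (mul_one (show Γ(Y, W) from c)).symm
  rw [show (homOfTop s).app W c = (homOfTop s).app W (c • one) from congrArg _ hc,
    Scheme.Modules.Hom.app_smul (homOfTop s) c one]
  congr 1
  have h := N.unitHomEquiv.apply_symm_apply (PresheafOfModules.sectionsMk
    (fun V => res N (le_top : V.unop ≤ ⊤) s) fun _ _ i => res_res N i.unop.le le_top s)
  exact (SheafOfModules.unitHomEquiv_apply_coe _ _ (op W)).symm.trans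
    (congrArg (fun t : N.sections => t.val (op W)) h)

variable [IsIntegral X] [IsIntegral Y]

omit [IsIntegral Y] in
theorem germ_gen_injective {O : X.Opens} (hO : genericPoint X ∈ O) :
    Function.Injective (X.presheaf.germ O (genericPoint X) hO) := germ_injective_of_isIntegral X _ hO

variable (f : X ⟶ Y)

/-- The map of function fields along a morphism sending the generic point to the generic point. -/
def fieldMap (hf : f (genericPoint X) = genericPoint Y) : Y.functionField →+* X.functionField :=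
  (Y.presheaf.stalkSpecializes (specializes_of_eq hf) ≫ f.stalkMap (genericPoint X)).hom

theorem fieldMap_germ (hf : f (genericPoint X) = genericPoint Y) {W : Y.Opens} (hW : genericPoint Y ∈ W)
    (c : Γ(Y, W)) :
    fieldMap f hf (Y.presheaf.germ W _ hW c) =
      X.presheaf.germ (f ⁻¹ᵁ W) _ (show f (genericPoint X) ∈ W by rw [hf]; exact hW) (f.app W c) := by
  rw [fieldMap, CommRingCat.hom_comp, RingHom.comp_apply, ← Scheme.Hom.germ_stalkMap_apply]
  congr 1
  exact TopCat.Presheaf.germ_stalkSpecializes_apply (C := CommRingCat) _ _ _ _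

variable [IsLocallyNoetherian X] [IsFinite f]

/-- The function field upstairs is a finite extension. -/
theorem finite_fieldMap (hf : f (genericPoint X) = genericPoint Y) :
    letI := (fieldMap f hf).toAlgebra
    Module.Finite Y.functionField X.functionField := by
  letI := (fieldMap f hf).toAlgebra
  obtain ⟨V, hV, hηV, -⟩ := exists_isAffineOpen_mem_and_subset (x := genericPoint Y) (U := (⊤ : Y.Opens)) trivial
  have hξ : genericPoint X ∈ f ⁻¹ᵁ V := show f (genericPoint X) ∈ V by rw [hf]; exact hηV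
  haveI : Nonempty (f ⁻¹ᵁ V) := ⟨⟨_, hξ⟩⟩
  haveI : Nonempty (↑(f ⁻¹ᵁ V) : Scheme.{u}) := ⟨⟨_, hξ⟩⟩
  have hUaff : IsAffineOpen (f ⁻¹ᵁ V) := hV.preimage f
  letI := X.presheaf.algebra_section_stalk (⟨_, hξ⟩ : (f ⁻¹ᵁ V : X.Opens))
  haveI : IsFractionRing Γ(X, f ⁻¹ᵁ V) X.functionField := functionField_isFractionRing_of_isAffineOpen X _ hUaff
  letI : Algebra Γ(Y, V) Γ(X, f ⁻¹ᵁ V) := (f.app V).hom.toAlgebra
  haveI : Module.Finite Γ(Y, V) Γ(X, f ⁻¹ᵁ V) := IsFinite.finite_app f V hV
  obtain ⟨n, g, hg⟩ := Module.Finite.exists_fin (R := Γ(Y, V)) (M := Γ(X, f ⁻¹ᵁ V))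
  let germX : Γ(X, f ⁻¹ᵁ V) →+* X.functionField := (X.presheaf.germ _ _ hξ).hom
  let T : Submodule Y.functionField X.functionField := Submodule.span _ (Set.range fun i => germX (g i))
  have hT : ∀ b, germX b ∈ T := fun b => by
    obtain ⟨c, hc⟩ := (Submodule.mem_span_range_iff_exists_fun _).1 (hg.ge (Submodule.mem_top (x := b)))
    rw [← hc, map_sum]
    refine T.sum_mem fun i _ => ?_
    rw [show germX (c i • g i) = fieldMap f hf (Y.presheaf.germ V _ hηV (c i)) * germX (g i) by
      rw [fieldMap_germ, Algebra.smul_def, map_mul]; rfl]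
    exact T.smul_mem _ (Submodule.subset_span ⟨i, rfl⟩)
  haveI : Module.Finite Y.functionField T := Module.Finite.span_of_finite _ (Set.finite_range _)
  have htop : T = ⊤ := by
    rw [eq_top_iff]
    intro w _
    obtain ⟨b, b', hb', hw⟩ := IsFractionRing.div_surjective Γ(X, f ⁻¹ᵁ V) (K := X.functionField) w
    have hb'0 : germX b' ≠ 0 := fun h =>
      nonZeroDivisors.ne_zero hb' (IsFractionRing.injective Γ(X, f ⁻¹ᵁ V) X.functionField (h.trans (map_zero _).symm))
    have hmulT : ∀ t ∈ T, germX b' * t ∈ T := fun t ht => by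
      induction ht using Submodule.span_induction with
      | mem t ht => obtain ⟨i, rfl⟩ := ht; show germX b' * germX (g i) ∈ T; rw [← map_mul]; exact hT _
      | zero => rw [mul_zero]; exact T.zero_mem
      | add a c _ _ ha hc => rw [mul_add]; exact T.add_mem ha hc
      | smul r a _ ha => rw [mul_smul_comm]; exact T.smul_mem _ ha
    let μ : T →ₗ[Y.functionField] T :=
      (LinearMap.mulLeft Y.functionField (germX b')).restrict hmulT
    have hμ : Function.Surjective μ := LinearMap.injective_iff_surjective.1 fun t t' h =>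
      Subtype.ext (mul_left_cancel₀ hb'0 (congrArg Subtype.val h))
    obtain ⟨t, ht⟩ := hμ ⟨germX b, hT b⟩
    have : w = t.1 := by
      refine mul_left_cancel₀ hb'0 ?_
      rw [← hw, show algebraMap Γ(X, f ⁻¹ᵁ V) X.functionField b' = germX b' from rfl, mul_div_cancel₀ _ hb'0]
      exact (congrArg Subtype.val ht).symm
    exact this ▸ t.2
  exact Module.Finite.of_surjective T.subtype fun w => ⟨⟨w, htop ▸ Submodule.mem_top⟩, rfl⟩

variable [Nonempty X]

/-- The coherent sheaf and the global sections. -/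
theorem exists_coh_sections (hf : f (genericPoint X) = genericPoint Y) :
    ∃ (r : ℕ) (M : X.Modules) (e : Fin r → Γ((Scheme.Modules.pushforward f).obj M, ⊤)), 0 < r ∧ Coh.IsCoh M ∧
      ∃ v : ∀ (W : Y.Opens), genericPoint Y ∈ W → Γ((Scheme.Modules.pushforward f).obj M, W) →+ X.functionField,
        (∀ W hW, Function.Injective (v W hW)) ∧
        (∀ W hW (c : Γ(Y, W)) t, v W hW (c • t) = fieldMap f hf (Y.presheaf.germ W _ hW c) * v W hW t) ∧
        (∀ W W' (hW : genericPoint Y ∈ W) (hW' : genericPoint Y ∈ W') (h : W' ≤ W) t,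
          v W' hW' (res _ h t) = v W hW t) ∧
        letI := (fieldMap f hf).toAlgebra
        ∃ b : Module.Basis (Fin r) Y.functionField X.functionField, ∀ i, v ⊤ trivial (e i) = b i := by
  classical
  letI := (fieldMap f hf).toAlgebra
  haveI := finite_fieldMap f hf
  let r := Module.finrank Y.functionField X.functionField
  let b := Module.finBasis Y.functionField X.functionField
  choose O hξO t ht using fun i => TopCat.Presheaf.germ_exist X.presheaf (b i)
  obtain ⟨U, hU, hξU, hUle⟩ := exists_isAffineOpen_mem_and_subset (x := genericPoint X) (U := Finset.univ.inf O)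
    (by
      show genericPoint X ∈ ((Finset.univ.inf O : X.Opens) : Set X)
      rw [Opens.coe_finset_inf]
      simp only [Finset.inf_eq_iInf, Set.mem_iInter, Set.iInf_eq_iInter]
      exact fun i _ => hξO i)
  let F := (Scheme.Modules.pushforward U.ι).obj (Coh.structureModule ↑U)
  haveI : (Coh.structureModule (↑U : Scheme.{u})).IsQuasicoherent := QC.isQCoh_unit _
  haveI : F.IsQuasicoherent := QC.isQCoh_pushforward U.ι
  have hUW : ∀ W : X.Opens, U.ι ''ᵁ U.ι ⁻¹ᵁ W ≤ W := fun W => by
    rintro _ ⟨y, hy, rfl⟩; exact hy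
  have hmem : ∀ W : X.Opens, genericPoint X ∈ W → genericPoint X ∈ U.ι ''ᵁ U.ι ⁻¹ᵁ W :=
    fun W hW => ⟨⟨_, hξU⟩, hW, rfl⟩
  let vX : ∀ W : X.Opens, genericPoint X ∈ W → Γ(F, W) →+ X.functionField := fun W hW =>
    (X.presheaf.germ (U.ι ''ᵁ U.ι ⁻¹ᵁ W) _ (hmem W hW)).hom.toAddMonoidHom
  have htop : ∀ i, U.ι ''ᵁ U.ι ⁻¹ᵁ ⊤ ≤ O i := fun i => by
    rintro _ ⟨y, -, rfl⟩
    exact (Finset.inf_le (Finset.mem_univ i) : Finset.univ.inf O ≤ O i) (hUle y.2)
  let σ : Fin r → Γ(F, ⊤) := fun i => (resO X (htop i) (t i) : Γ(X, U.ι ''ᵁ U.ι ⁻¹ᵁ ⊤))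
  let S : QC.Sub F := QC.genSub (F := F) (D := ⊤) (Finset.univ.image σ : Finset Γ(F, ⊤))
  have hS : QC.LocFinGen S ⊤ := fun x _ => by
    obtain ⟨D, hD, hxD, -⟩ := exists_isAffineOpen_mem_and_subset (x := x) (U := (⊤ : X.Opens)) trivial
    refine ⟨D, hD, hxD, le_top, (Finset.univ.image σ).image (res F le_top), ?_⟩
    rw [Finset.coe_image]
    exact (QC.GenOn.mk (fun t ht => QC.mem_genSub_of_mem ht) fun O _ => le_rfl).mono le_top
  have hcoh := S.isCoh_toModules hS
  let M := S.toModules
  have hσ : ∀ i, σ i ∈ S.obj ⊤ := fun i =>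
    QC.mem_genSub_of_mem (Finset.mem_coe.2 (Finset.mem_image_of_mem σ (Finset.mem_univ i)))
  choose e he using fun i => (S.range_ι_app ⊤ (σ i)).2 (hσ i)
  refine ⟨r, M, fun i => (show Γ(M, f ⁻¹ᵁ ⊤) from e i), Module.finrank_pos, hcoh,
    fun W hW => (vX (f ⁻¹ᵁ W) (show f (genericPoint X) ∈ W by rw [hf]; exact hW)).comp
      (S.ι.app (f ⁻¹ᵁ W)).hom, ?_, ?_, ?_, b, ?_⟩
  · intro W hW
    exact (germ_gen_injective _).comp (S.ι_app_injective _)
  · intro W hW c m
    have h1 : S.ι.app (f ⁻¹ᵁ W) ((f.app W c) • (show Γ(M, f ⁻¹ᵁ W) from m)) =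
        (f.app W c) • S.ι.app (f ⁻¹ᵁ W) m := Scheme.Modules.Hom.app_smul _ _ _
    show X.presheaf.germ _ _ _ (S.ι.app (f ⁻¹ᵁ W) ((f.app W c) • (show Γ(M, f ⁻¹ᵁ W) from m))) = _
    rw [h1]
    show X.presheaf.germ (U.ι ''ᵁ U.ι ⁻¹ᵁ f ⁻¹ᵁ W) _ _
      (resO X (hUW _) (f.app W c) * (show Γ(X, U.ι ''ᵁ U.ι ⁻¹ᵁ f ⁻¹ᵁ W) from S.ι.app (f ⁻¹ᵁ W) m)) = _
    rw [map_mul, fieldMap_germ]
    congr 1
    exact TopCat.Presheaf.germ_res_apply X.presheaf _ _ _ _
  · intro W W' hW hW' h m
    have h1 := QC.app_res S.ι (f.preimage_mono h) m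
    show X.presheaf.germ _ _ _ (S.ι.app (f ⁻¹ᵁ W') (res M (f.preimage_mono h) m)) = _
    rw [← h1]
    exact TopCat.Presheaf.germ_res_apply X.presheaf _ _ _ _
  · intro i
    show X.presheaf.germ _ _ _ (S.ι.app ⊤ (e i)) = b i
    rw [he, ← ht i]
    exact TopCat.Presheaf.germ_res_apply X.presheaf _ _ _ _

/-- The free module of rank `r`. -/
abbrev freeN (Y : Scheme.{u}) (r : ℕ) : Y.Modules := SheafOfModules.free (ULift.{u} (Fin r))

/-- Its inclusions. -/
abbrev ιF (Y : Scheme.{u}) (r : ℕ) (i : ULift.{u} (Fin r)) : Coh.structureModule Y ⟶ freeN Y r :=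
  SheafOfModules.ιFree i

omit [IsIntegral X] [IsLocallyNoetherian X] [IsFinite f] [Nonempty X] in
/-- Elements of the stalk at the generic point of a finite free module. -/
theorem exists_free_germ {r : ℕ} (a : (freeN Y r).presheaf.stalk (genericPoint Y)) :
    ∃ (W : Y.Opens) (hW : genericPoint Y ∈ W) (c : ULift.{u} (Fin r) → Γ(Y, W)),
      TopCat.Presheaf.germ (freeN Y r).presheaf W _ hW
        (∑ i, (ιF Y r i).app W (c i)) = a := by
  classical
  let Fr : Y.Modules := freeN Y r
  obtain ⟨W, hW, s, rfl⟩ := TopCat.Presheaf.germ_exist Fr.presheaf a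
  let p : ∀ i : ULift.{u} (Fin r), Fr ⟶ Coh.structureModule Y := fun i =>
    Sigma.desc fun j => if j = i then 𝟙 _ else 0
  have hid : ∑ i, p i ≫ (ιF Y r i) = 𝟙 Fr := by
    refine Sigma.hom_ext _ _ fun j => ?_
    refine (Preadditive.comp_sum _ _ _).trans (Eq.trans ?_ (Category.comp_id _).symm)
    rw [Finset.sum_eq_single j]
    · rw [← Category.assoc, Sigma.ι_desc, if_pos rfl, Category.id_comp]; rfl
    · intro i _ hne
      rw [← Category.assoc, Sigma.ι_desc, if_neg (Ne.symm hne), zero_comp]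
    · exact fun h => absurd (Finset.mem_univ j) h
  refine ⟨W, hW, fun i => (p i).app W s, congrArg _ ?_⟩
  have h := congrArg (fun φ : Fr ⟶ Fr => φ.app W s) hid
  refine Eq.trans ?_ h
  exact (LocFree.sum_app Finset.univ (fun i => p i ≫ ιF Y r i) W s).symm

/-- Generic bijectivity. -/
theorem exists_generic_iso (hf : f (genericPoint X) = genericPoint Y) :
    ∃ (r : ℕ) (M : X.Modules)
      (α : (SheafOfModules.free (ULift.{u} (Fin r)) : Y.Modules) ⟶ (Scheme.Modules.pushforward f).obj M),
      0 < r ∧ Coh.IsCoh M ∧ IsIso ((TopCat.Presheaf.stalkFunctor AddCommGrpCat.{u} (genericPoint Y)).map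
        ((SheafOfModules.toSheaf Y.ringCatSheaf).map α).hom) := by
  classical
  letI := (fieldMap f hf).toAlgebra
  obtain ⟨r, M, e, hr, hM, v, hinj, hsmul, hres, b, hb⟩ := exists_coh_sections f hf
  let N := (Scheme.Modules.pushforward f).obj M
  let α : freeN Y r ⟶ N :=
    Sigma.desc fun i => homOfTop (e i.down)
  refine ⟨r, M, α, hr, hM, ?_⟩
  have hα : ∀ (W : Y.Opens) (hW : genericPoint Y ∈ W) (c : ULift.{u} (Fin r) → Γ(Y, W)),
      v W hW (α.app W (∑ i, (ιF Y r i).app W (c i))) =
        ∑ i, (Y.presheaf.germ W _ hW (c i)) • (b.reindex Equiv.ulift.symm) i := fun W hW c => by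
    rw [map_sum, map_sum]
    refine Finset.sum_congr rfl fun i _ => ?_
    rw [show α.app W ((ιF Y r i).app W (c i)) = (homOfTop (e i.down)).app W (c i) from
        congrArg (fun φ : Coh.structureModule Y ⟶ N => φ.app W (c i))
          (show ιF Y r i ≫ α = homOfTop (e i.down) from Sigma.ι_desc _ i),
      homOfTop_app, hsmul, hres ⊤ W trivial hW le_top, hb, Algebra.smul_def, Module.Basis.reindex_apply]
    rfl
  rw [ConcreteCategory.isIso_iff_bijective]
  constructor
  · rw [injective_iff_map_eq_zero]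
    intro a ha
    obtain ⟨W, hW, c, rfl⟩ := exists_free_germ a
    erw [TopCat.Presheaf.stalkFunctor_map_germ_apply] at ha
    obtain ⟨W', hW', i₁, i₂, heq⟩ := TopCat.Presheaf.germ_eq N.presheaf _ hW hW _ _
      (ha.trans (map_zero (TopCat.Presheaf.germ N.presheaf W _ hW).hom).symm)
    have h0 : v W hW (α.app W (∑ i, (ιF Y r i).app W (c i))) = 0 := by
      rw [← hres W W' hW hW' i₁.le]
      exact (congrArg (v W' hW') heq).trans (by rw [map_zero, map_zero])
    rw [hα] at h0
    have hc := Fintype.linearIndependent_iff.1 (b.reindex Equiv.ulift.symm).linearIndependent _ h0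
    have hc0 : ∀ i, c i = 0 := fun i => germ_gen_injective (X := Y) hW ((hc i).trans (map_zero _).symm)
    simp [hc0]
  · intro a
    obtain ⟨W, hW, t, rfl⟩ := TopCat.Presheaf.germ_exist N.presheaf a
    let κ := fun i => (b.reindex Equiv.ulift.symm).repr (v W hW t) i
    choose Wc hWc c hc using fun i => TopCat.Presheaf.germ_exist Y.presheaf (κ i)
    let W' : Y.Opens := W ⊓ Finset.univ.inf Wc
    have hW' : genericPoint Y ∈ W' := ⟨hW, by
      show genericPoint Y ∈ ((Finset.univ.inf Wc : Y.Opens) : Set Y)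
      rw [Opens.coe_finset_inf]
      simp only [Finset.inf_eq_iInf, Set.mem_iInter, Set.iInf_eq_iInter]
      exact fun i _ => hWc i⟩
    let c' : ULift.{u} (Fin r) → Γ(Y, W') := fun i =>
      resO Y (inf_le_right.trans (Finset.inf_le (Finset.mem_univ i))) (c i)
    let s := ∑ i, (ιF Y r i).app W' (c' i)
    refine ⟨TopCat.Presheaf.germ (freeN Y r).presheaf W' _ hW' s, ?_⟩
    erw [TopCat.Presheaf.stalkFunctor_map_germ_apply]
    refine Eq.trans ?_ (TopCat.Presheaf.germ_res_apply N.presheaf (homOfLE (inf_le_left : W' ≤ W)) _ hW' t)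
    refine congrArg _ (hinj W' hW' ?_)
    refine (hα W' hW' c').trans (Eq.trans ?_ (hres W W' hW hW' inf_le_left t).symm)
    rw [← (b.reindex Equiv.ulift.symm).sum_repr (v W hW t)]
    refine Finset.sum_congr rfl fun i _ => ?_
    congr 1
    exact (TopCat.Presheaf.germ_res_apply Y.presheaf _ _ _ _).trans (hc i)

end Groth.Agent.GenBasis
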